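import Cfsg.Agent.Lib.P11.Defs
import Cfsg.Agent.Lib.Classical.SLBasic
import Cfsg.Agent.Lib.Dickson.Subfield
import Cfsg.Agent.Lib.KInv.Ree
import Cfsg.Agent.S2065
import Cfsg.Agent.S3627

/-! Package ISO: the two types of blocks.  See `plans/P11.md`. -/

set_option autoImplicit false
set_option linter.unusedSectionVars false

namespace CfsgLib.P11

open Subgroup Cfsg MulAction CfsgLib.Tech

universe u

theorem IsL.of_iso {X : Type*} [Group X] {F : Type*} [Field F] [Fintype F] (hF : Fintype.card F = 11)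
    (e : X ≃* Matrix.ProjectiveSpecialLinearGroup (Fin 2) F) : IsL X := by
  refine IsL.congr ⟨Classical.psl_fin_isSimpleGroup 2 le_rfl fun _ => by omega, ?_⟩ e.symm
  have h := Dickson.card_psl (K := F)
  rw [Nat.card_eq_fintype_card (α := F), hF] at h
  norm_num at h ⊢
  omega

theorem IsJ.of_iso {X : Type*} [Group X] (h : Spor.IsoJ1 X) : IsJ X := by
  refine IsJ.congr ?_ h.some.symm
  obtain ⟨hs, hc⟩ := J1.isJ1_of_iso ⟨MulEquiv.refl Spor.J1⟩
  haveI : Finite Spor.J1 := Nat.finite_of_card_ne_zero (by rw [hc]; norm_num)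
  have ho : ∀ x : Spor.J1, orderOf x ∈ [1, 2, 3, 5, 6, 7, 10, 11, 15, 19] := fun x =>
    (Set.ext_iff.1 Cfsg.Agent.S3627.spec _).1 ⟨x, rfl⟩
  refine ⟨hs, hc, ho, fun α => ?_, fun s t => KInv.isConj_of_eight fun S => ⟨?_, fun x hx => ?_⟩,
    Cfsg.Agent.S3627.j1_aut (11, 8) (by simp)⟩
  · obtain ⟨j, hj⟩ : α ∈ Inn Spor.J1 := (index_eq_one.1 Cfsg.Agent.S2065.result).ge trivial
    exact ⟨j, fun x => by rw [← hj]; rfl⟩
  · rw [S.card_eq_multiplicity, hc]
    decide +kernel
  · obtain ⟨k, hk⟩ := isPGroup_zpowers_iff.1 (isPGroup_zpowers_of_mem S.isPGroup' hx)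
    have h1 := ho x
    rw [← pow_two, ← orderOf_dvd_iff_pow_eq_one]
    rcases k with _ | _ | k
    · simp [hk]
    · simp [hk]
    · rw [hk, pow_add, pow_add] at h1
      simp only [List.mem_cons, List.not_mem_nil, or_false] at h1
      omega

end CfsgLib.P11
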