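import Cfsg.Agent.Lib.P11.Defs
import Cfsg.Agent.S0506
import Cfsg.Agent.S2302
import Cfsg.Agent.Lib.SL2.PSL
import Cfsg.Agent.Lib.Dickson.Subfield
import Cfsg.Agent.Lib.Fgs.ClassSize

/-! Package JE: simple groups without elements of order four containing `J₁`.  See `plans/P11.md`. -/

set_option autoImplicit false
set_option linter.unusedSectionVars false

namespace CfsgLib.P11

open Subgroup Cfsg MulAction CfsgLib.Tech

universe u

theorem IsJ.exists_ten {X : Type*} [Group X] (h : IsJ X) : ∃ c : X, orderOf c = 10 := by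
  obtain ⟨g, c, h1, h2, h3⟩ := h.aut
  haveI : Fact (Nat.Prime 11) := ⟨by norm_num⟩
  have h6 : ∀ k, c ^ k * g * (c ^ k)⁻¹ = g ^ 8 ^ k := fun k => by
    induction k with
    | zero => simp
    | succ k ih =>
      rw [pow_succ', mul_inv_rev, mul_assoc c, mul_assoc c, ← mul_assoc _ _ c⁻¹, ih, ← mul_assoc, ← conj_pow,
        h3, mul_inv_cancel_right, ← pow_mul, pow_succ']
  have h7 := h6 (orderOf c)
  rw [pow_orderOf_eq_one, one_mul, inv_one, mul_one] at h7
  have h8 := pow_eq_pow_iff_modEq.1 ((pow_one g).trans h7)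
  rw [orderOf_eq_prime h1 h2] at h8
  have h9 := h.ord c
  refine ⟨c, ?_⟩
  generalize orderOf c = n at h8 h9
  revert h8
  revert n
  decide

open scoped MatrixGroups in
theorem IsJ.eq_top {G : Type u} [Group G] [Finite G] [IsSimpleGroup G] {X : Subgroup G} (hX : IsJ X)
    (h4 : ∀ g : G, g ^ 4 = 1 → g ^ 2 = 1) : X = ⊤ := by
  haveI : Fact (Nat.Prime 2) := ⟨Nat.prime_two⟩
  have hd := X.card_subgroup_dvd_card
  rw [hX.card] at hd
  have hn : ¬ IsMulCommutative G := fun hm => by
    let _ : CommGroup G := { mul_comm := hm.is_comm.comm }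
    rcases (Nat.dvd_prime (IsSimpleGroup.prime_card (α := G))).1 hd with e | e
    · norm_num at e
    · have := IsSimpleGroup.prime_card (α := G)
      rw [← e] at this
      norm_num at this
  have sq : ∀ (k : ℕ) (g : G), g ^ 2 ^ k = 1 → g * g = 1 := fun k => by
    induction k with
    | zero => intro g hg; rw [pow_zero, pow_one] at hg; rw [hg, one_mul]
    | succ k ih =>
      intro g hg
      rw [pow_succ', pow_mul] at hg
      rw [← pow_two]
      exact h4 g (by rw [← ih _ hg, ← pow_add])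
  obtain ⟨S⟩ : Nonempty (Sylow 2 G) := inferInstance
  have hS : ∀ x ∈ (S : Subgroup G), x⁻¹ = x := fun x hx =>
    (isPGroup_iff_mem.1 S.isPGroup' x hx).elim fun k hk => inv_eq_of_mul_eq_one_right (sq k x hk)
  rcases Cfsg.Agent.S0506.result hn S ⟨⟨fun x y => Subtype.ext (by
      have := hS _ (mul_mem x.2 y.2)
      rw [mul_inv_rev, hS _ x.2, hS _ y.2] at this
      exact this.symm)⟩⟩ with ⟨a, ha, F, _, _, hF, ⟨e⟩⟩ | ⟨F, _, _, hF, ⟨e⟩⟩ | ⟨-, m, -, h⟩ | ⟨-, h⟩
  · exfalso
    have h2 : (2 : F) = 0 := by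
      have h := FiniteField.cast_card_eq_zero F
      rw [hF, Nat.cast_pow] at h
      exact_mod_cast pow_eq_zero_iff (by omega) |>.1 h
    have : CharP F 2 := (CharP.charP_iff_prime_eq_zero Nat.prime_two).2 (by exact_mod_cast h2)
    have f : G ≃* SL(2, F) := e.trans (SL2.pmEquiv h2).symm
    obtain ⟨c, hc⟩ := hX.exists_ten
    rw [← orderOf_coe, ← f.orderOf_eq] at hc
    generalize f c = w at hc
    have ht : orderOf (w ^ 5) = 2 := by rw [orderOf_pow_of_dvd (by norm_num) (by rw [hc]; norm_num), hc]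
    have h3 := (Cfsg.Agent.S2302.result _ _ ht ht).2
    have h5 := h3.symm.trans (Fgs.card_carrier_eq_index (w ^ 5))
    have h7 := (centralizer ({w ^ 5} : Set SL(2, F))).card_mul_index
    have h8 : 0 < Fintype.card F ^ 2 - 1 := h5 ▸ Nat.pos_of_ne_zero index_ne_zero_of_finite
    rw [← h5, SL2.card_SL2, Nat.mul_left_inj h8.ne', hF] at h7
    have h9 := orderOf_dvd_natCard (centralizer ({w ^ 5} : Set SL(2, F)))
      (mem_centralizer_singleton_iff.2 ((Commute.refl w).pow_right 5).eq)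
    rw [hc, h7] at h9
    exact absurd (Nat.prime_five.dvd_of_dvd_pow (dvd_trans (by norm_num) h9)) (by norm_num)
  · exfalso
    have hc := Dickson.card_psl (K := F)
    rw [← Nat.card_congr e.toEquiv, Nat.card_eq_fintype_card (α := F)] at hc
    generalize Fintype.card F = q at *
    rw [Nat.gcd_eq_left (by omega : 2 ∣ q - 1)] at hc
    obtain ⟨i, hi⟩ := hd
    have h2 : 16 ∣ q * (q ^ 2 - 1) := ⟨21945 * i, by rw [← hc, hi]; ring⟩
    have h3 : 16 ∣ q ^ 2 - 1 := (Nat.Coprime.dvd_mul_left (Nat.Coprime.pow_left 4 (m := 2)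
      (Nat.coprime_two_left.2 (by rw [Nat.odd_iff]; omega)))).1 h2
    have h4 : q ^ 2 % 16 = 9 := by
      rw [Nat.pow_mod]
      rcases (show q % 16 = 3 ∨ q % 16 = 11 ∨ q % 16 = 5 ∨ q % 16 = 13 by omega) with h | h | h | h <;> rw [h]
    omega
  · exfalso
    have h5 : 5 ∣ Nat.card G := dvd_trans (by norm_num) hd
    have h1 : 3 ^ (2 * m + 1) % 5 = 2 ∨ 3 ^ (2 * m + 1) % 5 = 3 := by
      clear h
      induction m with
      | zero => norm_num
      | succ m ih => rw [show 2 * (m + 1) + 1 = 2 * m + 1 + 2 by ring, pow_add]; omega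
    rw [h] at h5
    generalize 3 ^ (2 * m + 1) = q at h1 h5
    have h2 : q ^ 3 % 5 = 3 ∨ q ^ 3 % 5 = 2 := by
      rw [Nat.pow_mod]
      rcases h1 with h | h <;> rw [h] <;> norm_num
    rcases (Nat.prime_five.dvd_mul).1 h5 with h | h
    · rcases (Nat.prime_five.dvd_mul).1 h with h | h <;> omega
    · omega
  · exact eq_top_of_card_eq X (hX.card.trans h.symm)

end CfsgLib.P11
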